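import Mathlib

/-!
# Tensor products with a regular extension
-/

set_option autoImplicit false
set_option linter.style.haveILetI false

universe u

open TensorProduct Polynomial

namespace ConstDegLib

variable (K : Type u) [Field K] (E : Type u) [Field E] [Algebra K E] [Module.Finite K E]
  (F : Type u) [Field F] [Algebra K F]

theorem irreducible_map (hcl : ∀ x : F, IsAlgebraic K x → x ∈ Set.range (algebraMap K F))
    {p : K[X]} (hp : Irreducible p) (hm : p.Monic) : Irreducible (p.map (algebraMap K F)) := by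
  rw [hm.irreducible_iff_natDegree] at hp
  rw [(hm.map _).irreducible_iff_natDegree]
  refine ⟨fun h => hp.1 (Polynomial.map_injective _ (algebraMap K F).injective (h.trans (Polynomial.map_one _).symm)),
    fun a b ha hb hab => ?_⟩
  have hsplit : ∀ c : F[X], c.Monic → c ∣ p.map (algebraMap K F) → c ∈ lifts (algebraMap K F) := by
    intro c hc hdvd
    let Ω := AlgebraicClosure F
    refine (lifts_iff_coeff_lifts _).2 fun i => hcl _ ?_
    have hroots : ∀ r ∈ (c.map (algebraMap F Ω)).roots, IsIntegral K r := fun r hr => by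
      refine ⟨p, hm, ?_⟩
      obtain ⟨d, hd⟩ := hdvd
      have h0 : (c.map (algebraMap F Ω)).eval r = 0 := (mem_roots'.1 hr).2
      have : ((p.map (algebraMap K F)).map (algebraMap F Ω)).eval r = 0 := by
        rw [hd, Polynomial.map_mul, eval_mul, h0, zero_mul]
      rwa [Polynomial.map_map, eval_map, ← IsScalarTower.algebraMap_eq] at this
    have hsp : (c.map (algebraMap F Ω)).Splits := IsAlgClosed.splits _
    have hmem : c.map (algebraMap F Ω) ∈ lifts (integralClosure K Ω).toSubring.subtype := by
      rw [hsp.eq_prod_roots_of_monic (hc.map _)]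
      refine Subsemiring.multiset_prod_mem _ _ fun q hq => ?_
      obtain ⟨r, hr, rfl⟩ := Multiset.mem_map.1 hq
      show X - C r ∈ liftsRing (integralClosure K Ω).toSubring.subtype
      exact sub_mem ⟨X, by simp⟩ ⟨C ⟨r, hroots r hr⟩, by simp; rfl⟩
    obtain ⟨z, hz⟩ := (lifts_iff_coeff_lifts _).1 hmem i
    rw [coeff_map] at hz
    have hint : IsIntegral K (algebraMap F Ω (c.coeff i)) := hz ▸ z.2
    exact ((isIntegral_algebraMap_iff (algebraMap F Ω).injective).1 hint).isAlgebraic
  obtain ⟨a', rfl, -, ham⟩ := lifts_and_natDegree_eq_and_monic (hsplit a ha (hab ▸ dvd_mul_right a b)) ha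
  obtain ⟨b', rfl, -, hbm⟩ := lifts_and_natDegree_eq_and_monic (hsplit b hb (hab ▸ dvd_mul_left b _)) hb
  rw [← Polynomial.map_mul] at hab
  rw [natDegree_map, natDegree_map]
  exact hp.2 a' b' ham hbm (Polynomial.map_injective _ (algebraMap K F).injective hab)

/-- Separable case: the tensor product is a field. -/
theorem isField_tensor_separable (hcl : ∀ x : F, IsAlgebraic K x → x ∈ Set.range (algebraMap K F))
    [Algebra.IsSeparable K E] : IsField (F ⊗[K] E) := by
  obtain ⟨α, hα⟩ := Field.exists_primitive_element K E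
  have hint : IsIntegral K α := IsIntegral.of_finite K α
  let pb : PowerBasis K E := (IntermediateField.adjoin.powerBasis hint).map
    ((IntermediateField.equivOfEq hα).trans IntermediateField.topEquiv)
  haveI hirr : Fact (Irreducible ((minpoly K pb.gen).map (algebraMap K F))) :=
    ⟨irreducible_map K F hcl (minpoly.irreducible (IsIntegral.of_finite K _)) (minpoly.monic (IsIntegral.of_finite K _))⟩
  let g : AdjoinRoot ((minpoly K pb.gen).map (algebraMap K F)) →ₐ[F] F ⊗[K] E :=
    AdjoinRoot.liftAlgHom _ (Algebra.ofId F (F ⊗[K] E)) (1 ⊗ₜ[K] pb.gen) (by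
      show ((minpoly K pb.gen).map (algebraMap K F)).eval₂ (algebraMap F (F ⊗[K] E)) (1 ⊗ₜ[K] pb.gen) = 0
      rw [eval₂_map, ← IsScalarTower.algebraMap_eq, ← aeval_def]
      have := aeval_algHom_apply (Algebra.TensorProduct.includeRight : E →ₐ[K] F ⊗[K] E) pb.gen (minpoly K pb.gen)
      rw [minpoly.aeval, map_zero] at this
      exact this)
  haveI : Module.Finite F (AdjoinRoot ((minpoly K pb.gen).map (algebraMap K F))) :=
    (AdjoinRoot.powerBasis hirr.out.ne_zero).finite
  have hdim : Module.finrank F (AdjoinRoot ((minpoly K pb.gen).map (algebraMap K F))) =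
      Module.finrank F (F ⊗[K] E) := by
    rw [(AdjoinRoot.powerBasis hirr.out.ne_zero).finrank, AdjoinRoot.powerBasis_dim, natDegree_map,
      pb.natDegree_minpoly, ← pb.finrank, Module.finrank_baseChange]
  have hg : Function.Injective g := g.toRingHom.injective
  exact MulEquiv.isField (Field.toIsField (AdjoinRoot ((minpoly K pb.gen).map (algebraMap K F))))
    (RingEquiv.ofBijective g ⟨hg, (LinearMap.injective_iff_surjective_of_finrank_eq_finrank hdim (f := g.toLinearMap)).1 hg⟩).symm.toMulEquiv

/-- A regular extension tensored with a finite extension is a field. -/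
theorem isField_tensor (hcl : ∀ x : F, IsAlgebraic K x → x ∈ Set.range (algebraMap K F))
    [_root_.IsReduced (F ⊗[K] E)] : IsField (F ⊗[K] E) := by
  let Es := separableClosure K E
  let q := ringExpChar K
  haveI : ExpChar K q := inferInstance
  haveI : Nontrivial (F ⊗[K] E) := inferInstance
  haveI : ExpChar (F ⊗[K] E) q := expChar_of_injective_algebraMap (algebraMap K (F ⊗[K] E)).injective q
  haveI : ExpChar Es q := expChar_of_injective_algebraMap (algebraMap K Es).injective q
  haveI : ExpChar E q := expChar_of_injective_algebraMap (algebraMap K E).injective q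
  let ψ : F ⊗[K] Es →ₐ[K] F ⊗[K] E := Algebra.TensorProduct.map (AlgHom.id K F) Es.val
  have hpow : ∀ x : F ⊗[K] E, ∃ n : ℕ, x ^ q ^ n ∈ ψ.range := fun x => by
    induction x using TensorProduct.induction_on with
    | zero => exact ⟨0, by rw [pow_zero, pow_one]; exact zero_mem _⟩
    | tmul a b =>
      obtain ⟨n, y, hy⟩ := IsPurelyInseparable.pow_mem Es q b
      refine ⟨n, (a ^ q ^ n) ⊗ₜ y, ?_⟩
      rw [show ((a ⊗ₜ[K] b : F ⊗[K] E)) ^ q ^ n = (a ^ q ^ n) ⊗ₜ (b ^ q ^ n) from Algebra.TensorProduct.tmul_pow _ _ _, ← hy]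
      first | done | rfl
    | add x y hx hy =>
      obtain ⟨m, hm⟩ := hx
      obtain ⟨n, hn⟩ := hy
      refine ⟨m + n, ?_⟩
      rw [add_pow_expChar_pow]
      refine add_mem ?_ ?_
      · rw [pow_add, pow_mul]; exact pow_mem hm _
      · rw [add_comm, pow_add, pow_mul]; exact pow_mem hn _
  have hs : IsField (F ⊗[K] Es) := isField_tensor_separable K Es F hcl
  refine ⟨exists_pair_ne _, mul_comm, fun {x} hx => ?_⟩
  obtain ⟨n, z, hz⟩ := hpow x
  have hne : x ^ q ^ n ≠ 0 := fun h => hx (IsReduced.eq_zero x ⟨_, h⟩)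
  obtain ⟨w, hw⟩ := hs.mul_inv_cancel (show z ≠ 0 from fun h => hne (hz ▸ (by rw [h]; exact map_zero ψ : ψ z = 0)))
  have hu : IsUnit (x ^ q ^ n) := by
    rw [← hz]
    exact IsUnit.map ψ.toRingHom (isUnit_iff_exists.2 ⟨w, hw, (hs.mul_comm w z).trans hw⟩)
  have hx' : IsUnit x := by
    refine isUnit_pow_iff (pow_ne_zero n ?_) |>.1 hu
    exact (expChar_pos K q).ne'
  exact ⟨(hx'.unit⁻¹ : (F ⊗[K] E)ˣ), hx'.mul_val_inv⟩

/-- The degree of constants divides the degree. -/
theorem finrank_dvd (hcl : ∀ x : F, IsAlgebraic K x → x ∈ Set.range (algebraMap K F))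
    [_root_.IsReduced (F ⊗[K] E)] (L : Type u) [Field L] [Algebra F L] [Algebra K L] [IsScalarTower K F L]
    (j : E →ₐ[K] L) : Module.finrank K E ∣ Module.finrank F L := by
  letI := (isField_tensor K E F hcl).toField
  let φ : F ⊗[K] E →ₐ[F] L := Algebra.TensorProduct.lift (Algebra.ofId F L) j fun a b => mul_comm _ _
  letI : Algebra (F ⊗[K] E) L := φ.toRingHom.toAlgebra
  haveI : IsScalarTower F (F ⊗[K] E) L := IsScalarTower.of_algebraMap_eq fun x => (φ.commutes x).symm
  rw [← Module.finrank_mul_finrank F (F ⊗[K] E) L, Module.finrank_baseChange]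
  exact dvd_mul_right _ _

end ConstDegLib
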