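import Groth.Agent.ConstDegLib.Alg
import Groth.Agent.GeomRedFieldLib.Locus
import Groth.Agent.LocFFLib.Basic
import Mathlib.AlgebraicGeometry.Morphisms.Proper

/-!
# The degree of the constant field extension divides the degree
-/

set_option autoImplicit false
set_option linter.style.haveILetI false
set_option backward.isDefEq.respectTransparency false
set_option backward.isDefEq.respectTransparency.types false

universe u

open CategoryTheory CategoryTheory.Limits AlgebraicGeometry TopologicalSpace TensorProduct

noncomputable section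

namespace ConstDegLib

theorem geometricallyReduced_toSpecΓ (X : Scheme.{u})
    (hgr : ∀ (E : Type u) [Field E] (i : Γ(X, ⊤) →+* E),
      AlgebraicGeometry.IsReduced (pullback X.toSpecΓ (Spec.map (CommRingCat.ofHom i)))) :
    GeometricallyReduced X.toSpecΓ := by
  refine ⟨fun E hE y P fst snd h => ?_⟩
  obtain ⟨φ, rfl⟩ := Spec.map_surjective y
  haveI := hgr E φ.hom
  exact isReduced_of_isOpenImmersion h.isoPullback.hom

/-- The constants of a normal integral scheme inside the residue field of the generic point. -/
theorem generic_regular (X : Scheme.{u}) [IsIntegral X] (hXn : ∀ x : X, IsIntegrallyClosed (X.presheaf.stalk x))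
    (hF : IsField Γ(X, ⊤)) (hgr : GeometricallyReduced X.toSpecΓ) (x : X) (hx : x = genericPoint X) :
    letI := hF.toField
    letI := (X.Γevaluation x).hom.toAlgebra
    (∀ y : X.residueField x, IsAlgebraic Γ(X, ⊤) y → y ∈ Set.range (algebraMap Γ(X, ⊤) (X.residueField x))) ∧
      Algebra.IsGeometricallyReduced Γ(X, ⊤) (X.residueField x) := by
  subst hx
  letI := hF.toField
  letI : Algebra Γ(X, ⊤) (X.presheaf.stalk (genericPoint X)) :=
    (X.presheaf.germ ⊤ (genericPoint X) trivial).hom.toAlgebra
  letI := (X.Γevaluation (genericPoint X)).hom.toAlgebra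
  let r : X.presheaf.stalk (genericPoint X) →ₐ[Γ(X, ⊤)] X.residueField (genericPoint X) :=
    { (X.residue (genericPoint X)).hom with commutes' := fun a => rfl }
  letI : Field (X.presheaf.stalk (genericPoint X)) := inferInstanceAs (Field X.functionField)
  have hr : Function.Bijective r := ⟨r.toRingHom.injective, X.residue_surjective _⟩
  let e := AlgEquiv.ofBijective r hr
  refine ⟨fun y hy => ?_, ?_⟩
  · obtain ⟨q, rfl⟩ := hr.2 y
    haveI : Nonempty (⊤ : X.Opens) := ⟨⟨genericPoint X, trivial⟩⟩
    have hint : IsIntegral Γ(X, ⊤) q := (isIntegral_algHom_iff r hr.1).1 hy.isIntegral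
    obtain ⟨s, hs⟩ := LocFFLib.exists_section_of_integral
      (fun z => ⟨inferInstance, hXn z⟩) ⊤ q hint
    exact ⟨s, (r.commutes s).symm.trans (congrArg r hs)⟩
  · haveI : Algebra.IsGeometricallyReduced Γ(X, ⊤) (X.presheaf.stalk (genericPoint X)) :=
      (GeomRedFieldLib.grAt_iff X.toSpecΓ (Scheme.fromSpecStalk_toSpecΓ X (genericPoint X))).1
        (GeomRedFieldLib.grAt_of_gr X.toSpecΓ _)
    exact Algebra.IsGeometricallyReduced.of_injective e.symm.toAlgHom e.symm.injective

theorem main (k : Type u) [Field k]
    (X Z : Scheme.{u}) [X.Over (Spec (CommRingCat.of k))] [Z.Over (Spec (CommRingCat.of k))]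
    [IsIntegral X] [IsIntegral Z]
    [IsProper (X ↘ Spec (CommRingCat.of k))] [IsProper (Z ↘ Spec (CommRingCat.of k))]
    (hXn : ∀ x : X, IsIntegrallyClosed (X.presheaf.stalk x))
    (f : Z ⟶ X) (hf : f ≫ (X ↘ Spec (CommRingCat.of k)) = Z ↘ Spec (CommRingCat.of k))
    [Surjective f]
    (hgr : ∀ (E : Type u) [Field E] (i : Γ(X, ⊤) →+* E),
      AlgebraicGeometry.IsReduced (pullback X.toSpecΓ (Spec.map (CommRingCat.ofHom i)))) :
    letI := f.appTop.hom.toAlgebra;
    letI := (f.residueFieldMap (genericPoint Z)).hom.toAlgebra;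
    Module.finrank Γ(X, ⊤) Γ(Z, ⊤) ∣
      Module.finrank (X.residueField (f.base (genericPoint Z))) (Z.residueField (genericPoint Z)) := by
  letI := f.appTop.hom.toAlgebra
  letI := (f.residueFieldMap (genericPoint Z)).hom.toAlgebra
  have hX := isField_of_universallyClosed k (X ↘ Spec (CommRingCat.of k))
  have hZ := isField_of_universallyClosed k (Z ↘ Spec (CommRingCat.of k))
  letI := hX.toField
  letI := hZ.toField
  haveI : Module.Finite Γ(X, ⊤) Γ(Z, ⊤) := by
    have h := finite_appTop_of_universallyClosed k (Z ↘ Spec (CommRingCat.of k))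
    rw [← hf, Scheme.Hom.comp_appTop] at h
    exact RingHom.Finite.of_comp_finite h
  have hx : f (genericPoint Z) = genericPoint X := by
    obtain ⟨z, hz⟩ := f.surjective (genericPoint X)
    have := (genericPoint_specializes z).map f.continuous
    rw [hz] at this
    exact (this.antisymm (genericPoint_specializes _)).eq
  obtain ⟨hcl, hgrF⟩ := generic_regular X hXn hX (geometricallyReduced_toSpecΓ X hgr) _ hx
  letI := (X.Γevaluation (f (genericPoint Z))).hom.toAlgebra
  haveI : _root_.IsReduced (X.residueField (f (genericPoint Z)) ⊗[Γ(X, ⊤)] Γ(Z, ⊤)) := by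
    haveI := hgrF
    exact GeomRedFieldLib.isReduced_tensor_geomRed _ _
  letI : Algebra Γ(X, ⊤) (Z.residueField (genericPoint Z)) :=
    ((f.residueFieldMap (genericPoint Z)).hom.comp (X.Γevaluation (f (genericPoint Z))).hom).toAlgebra
  haveI : IsScalarTower Γ(X, ⊤) (X.residueField (f (genericPoint Z))) (Z.residueField (genericPoint Z)) :=
    IsScalarTower.of_algebraMap_eq fun _ => rfl
  exact finrank_dvd Γ(X, ⊤) Γ(Z, ⊤) (X.residueField (f (genericPoint Z))) hcl (Z.residueField (genericPoint Z))
    { (Z.Γevaluation (genericPoint Z)).hom with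
      commutes' := fun a => (Scheme.Γevaluation_naturality_apply f (genericPoint Z) a).symm }

end ConstDegLib
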